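import Groth.Agent.Sga1.ProperLift
import Groth.Prelude.Def_Pi1X
import Groth.Agent.Desc.LQF
import Mathlib.AlgebraicGeometry.ZariskisMainTheorem

/-!
# Lifting sections with values in the étale locus of a proper morphism
-/

set_option autoImplicit false
set_option backward.isDefEq.respectTransparency false

open CategoryTheory CategoryTheory.Limits AlgebraicGeometry Opposite
open Groth.Agent.Sga1.SectionSpread Groth.Agent.Sga1.RankOne Groth.Agent.Sga1.ProperLift

universe u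

namespace Groth.Agent.Pi1.H398.SecLift

section EtaleLocus

/-- A morphism is étale on its étale locus. -/
theorem etale_etaleLocus {X Y : Scheme.{u}} (f : X ⟶ Y) : Etale ((Pi1X.etaleLocus f).ι ≫ f) := by
  let I := {U : X.Opens // Etale (U.ι ≫ f)}
  let V : X.Opens := Pi1X.etaleLocus f
  have hV : V = ⨆ i : I, i.1 := by
    change sSup _ = _
    rw [sSup_eq_iSup']
    rfl
  let W : I → V.toScheme.Opens := fun i => V.ι ⁻¹ᵁ i.1
  have hW : ⨆ i, W i = ⊤ := by
    rw [eq_top_iff]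
    rintro ⟨x, hx⟩ -
    rw [hV] at hx
    obtain ⟨i, hi⟩ := TopologicalSpace.Opens.mem_iSup.mp hx
    exact TopologicalSpace.Opens.mem_iSup.mpr ⟨i, hi⟩
  rw [IsZariskiLocalAtSource.iff_of_iSup_eq_top (P := @Etale) W hW]
  intro i
  have h1 := i.2
  have hle : ∀ x : (W i).toScheme, ((W i).ι ≫ V.ι) x ∈ i.1 := fun x => x.2
  let l : (W i).toScheme ⟶ i.1.toScheme := IsOpenImmersion.lift i.1.ι ((W i).ι ≫ V.ι) (by
    rw [Scheme.Opens.range_ι]
    rintro _ ⟨x, rfl⟩
    exact hle x)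
  have hl : l ≫ i.1.ι = (W i).ι ≫ V.ι := IsOpenImmersion.lift_fac _ _ _
  have hlo : IsOpenImmersion l := by
    have : IsOpenImmersion (l ≫ i.1.ι) := by rw [hl]; infer_instance
    exact IsOpenImmersion.of_comp l i.1.ι
  rw [← Category.assoc, ← hl, Category.assoc]
  infer_instance

theorem le_etaleLocus {X Y : Scheme.{u}} (f : X ⟶ Y) (U : X.Opens) (h : Etale (U.ι ≫ f)) :
    U ≤ Pi1X.etaleLocus f := le_sSup h

theorem etale_of_le {X Y : Scheme.{u}} (f : X ⟶ Y) (U : X.Opens) (h : U ≤ Pi1X.etaleLocus f) :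
    Etale (U.ι ≫ f) := by
  have h1 := etale_etaleLocus f
  have : U.ι ≫ f = X.homOfLE h ≫ (Pi1X.etaleLocus f).ι ≫ f := by
    rw [Scheme.homOfLE_ι_assoc]
  rw [this]
  infer_instance

theorem etale_open_of_le {X Y : Scheme.{u}} (f : X ⟶ Y) {U V : X.Opens} (hV : Etale (V.ι ≫ f))
    (h : U ≤ V) : Etale (U.ι ≫ f) := by
  have : U.ι ≫ f = X.homOfLE h ≫ V.ι ≫ f := by
    rw [Scheme.homOfLE_ι_assoc]
  rw [this]
  infer_instance

/-- Étaleness on an open is compatible with base change. -/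
theorem etale_preimage {X Y X' Y' : Scheme.{u}} {f : X ⟶ Y} {f' : X' ⟶ Y'} {g' : X' ⟶ X}
    {g : Y' ⟶ Y} (sq : IsPullback g' f' f g) (U : X.Opens) (hU : Etale (U.ι ≫ f)) :
    Etale ((g' ⁻¹ᵁ U).ι ≫ f') := by
  have h2 : IsPullback (g' ∣_ U) (g' ⁻¹ᵁ U).ι U.ι g' := isPullback_morphismRestrict g' _
  exact MorphismProperty.of_isPullback (h2.paste_vert sq) hU

end EtaleLocus

section local_base

variable {A : Type u} [CommRing A] [IsLocalRing A]

/-- Sections of a proper morphism over the closed fibre with values in an open on which the morphism is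
étale lift if clopen subsets lift. -/
theorem exists_section_lift {X E : Scheme.{u}} (f : X ⟶ Spec (CommRingCat.of A))
    (hf : IsClosedMap f) (π : E ⟶ X) [IsProper π] (hE : ClopenLifts (π ≫ f)) (U : E.Opens)
    (hU : Etale (U.ι ≫ π))
    (σ₀ : pullback f (cl A) ⟶ E) (hσ₀ : σ₀ ≫ π = pullback.fst f (cl A))
    (het : ∀ x, σ₀ x ∈ U) :
    ∃ σ : X ⟶ E, σ ≫ π = 𝟙 X ∧ pullback.fst f (cl A) ≫ σ = σ₀ ∧ ∀ x, σ x ∈ U := by
  let r : pullback f (cl A) ⟶ X := pullback.fst f (cl A)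
  let p : pullback (π ≫ f) (cl A) ⟶ E := pullback.fst (π ≫ f) (cl A)
  let q₀ : pullback (π ≫ f) (cl A) ⟶ pullback f (cl A) :=
    pullback.lift (pullback.fst (π ≫ f) (cl A) ≫ π) (pullback.snd _ _)
      (by rw [Category.assoc]; exact pullback.condition)
  have hq₁ : q₀ ≫ r = p ≫ π := pullback.lift_fst _ _ _
  have hq₂ : q₀ ≫ pullback.snd f (cl A) = pullback.snd (π ≫ f) (cl A) := pullback.lift_snd _ _ _
  -- the fibre square
  have sq : IsPullback p q₀ π r := by
    refine IsPullback.of_bot (h₃₁ := cl A) (v₂₁ := pullback.snd f (cl A)) (v₂₂ := f) ?_ hq₁.symm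
      (IsPullback.of_hasPullback f (cl A))
    rw [hq₂]
    exact IsPullback.of_hasPullback (π ≫ f) (cl A)
  have hq₀ : IsProper q₀ := MorphismProperty.of_isPullback sq inferInstance
  let s₀ : pullback f (cl A) ⟶ pullback (π ≫ f) (cl A) :=
    pullback.lift σ₀ (pullback.snd f (cl A)) (by
      rw [← Category.assoc, hσ₀]; exact pullback.condition)
  have hs₁ : s₀ ≫ p = σ₀ := pullback.lift_fst _ _ _
  have hs₂ : s₀ ≫ q₀ = 𝟙 _ := by
    apply pullback.hom_ext
    · have : (s₀ ≫ q₀) ≫ r = 𝟙 _ ≫ r := by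
        rw [Category.assoc, hq₁, ← Category.assoc, hs₁, hσ₀, Category.id_comp]
      exact this
    · rw [Category.assoc, hq₂, Category.id_comp]
      exact pullback.lift_snd _ _ _
  have hs_et : Etale s₀ := by
    let U₀ : (pullback (π ≫ f) (cl A)).Opens := p ⁻¹ᵁ U
    have hU₀ : ∀ x, s₀ x ∈ U₀ := by
      intro x
      change p (s₀ x) ∈ U
      rw [← Scheme.Hom.comp_apply, hs₁]
      exact het x
    have hEt : Etale (U₀.ι ≫ q₀) := etale_preimage sq U hU
    let l : pullback f (cl A) ⟶ U₀.toScheme := IsOpenImmersion.lift U₀.ι s₀ (by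
      rw [Scheme.Opens.range_ι]
      rintro _ ⟨x, rfl⟩
      exact hU₀ x)
    have hl : l ≫ U₀.ι = s₀ := IsOpenImmersion.lift_fac _ _ _
    have hl' : Etale l := by
      have : Etale (l ≫ U₀.ι ≫ q₀) := by
        rw [← Category.assoc, hl, hs₂]; infer_instance
      exact Etale.of_comp l (U₀.ι ≫ q₀)
    rw [← hl]
    infer_instance
  have hs_mono : Mono s₀ := by
    have : Mono (s₀ ≫ q₀) := by rw [hs₂]; infer_instance
    exact mono_of_mono s₀ q₀
  have hs_open : IsOpenImmersion s₀ := IsOpenImmersion.of_flat_of_mono s₀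
  have hs_closed : IsClosedImmersion s₀ := by
    have : IsClosedImmersion (s₀ ≫ q₀) := by rw [hs₂]; infer_instance
    exact IsClosedImmersion.of_comp s₀ q₀
  obtain ⟨W, hW, hWY⟩ := hE s₀.opensRange s₀.isClosedEmbedding.isClosed_range
  have hσW : Set.range σ₀ ⊆ Set.range W.ι := by
    rw [Scheme.Opens.range_ι]
    rintro _ ⟨x, rfl⟩
    have h1 : s₀ x ∈ s₀.opensRange := ⟨x, rfl⟩
    rw [← hWY] at h1
    rw [← hs₁, Scheme.Hom.comp_apply]
    exact h1
  let l := IsOpenImmersion.lift W.ι σ₀ hσW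
  have hl : l ≫ W.ι = σ₀ := IsOpenImmersion.lift_fac _ _ _
  have sq' : IsPullback l s₀ W.ι p := by
    refine IsOpenImmersion.isPullback l s₀ W.ι p (by rw [hs₁, hl]) ?_
    rw [Scheme.Opens.opensRange_ι]
    exact hWY
  have sq'' : IsPullback l (𝟙 _) (W.ι ≫ π) r := by
    rw [← hs₂]
    exact sq'.paste_vert sq
  have hWc : IsClosedImmersion W.ι := by
    refine IsClosedImmersion.of_isPreimmersion _ ?_
    rw [Scheme.Opens.range_ι]
    exact hW
  -- `U` contains `W`
  have hWet : W ≤ U := by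
    intro w hw
    by_contra hn
    have hcl : IsClosed ((fun y => f (π y)) '' ((W : Set E) ∩ (U : Set E)ᶜ)) := by
      have h1 : IsClosed ((W : Set E) ∩ (U : Set E)ᶜ) :=
        hW.inter U.2.isClosed_compl
      have h2 := hf _ (π.isClosedMap _ h1)
      rw [← Set.image_comp] at h2
      exact h2
    have hmem : (IsLocalRing.closedPoint A : PrimeSpectrum A) ∈
        (⟨((fun y => f (π y)) '' ((W : Set E) ∩ (U : Set E)ᶜ))ᶜ, hcl.isOpen_compl⟩ :
          (Spec (CommRingCat.of A)).Opens) := by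
      rintro ⟨y, ⟨hy, hyn⟩, hyc⟩
      apply hyn
      obtain ⟨y₀, rfl⟩ := exists_closedFibre_point (π ≫ f) y (by
        rw [Scheme.Hom.comp_apply]; exact hyc)
      have h3 : y₀ ∈ s₀.opensRange := by rw [← hWY]; exact hy
      obtain ⟨x, rfl⟩ := h3
      rw [← Scheme.Hom.comp_apply]
      change (s₀ ≫ p) x ∈ _
      rw [hs₁]
      exact het x
    have htop := eq_top_of_closedPoint_mem _ hmem
    have : f (π w) ∈ (⟨((fun y => f (π y)) '' ((W : Set E) ∩ (U : Set E)ᶜ))ᶜ,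
        hcl.isOpen_compl⟩ : (Spec (CommRingCat.of A)).Opens) := by
      rw [htop]; trivial
    exact this ⟨w, ⟨hw, hn⟩, rfl⟩
  have hetW : Etale (W.ι ≫ π) := etale_open_of_le π hU hWet
  have hfin : IsFinite (W.ι ≫ π) := by
    have : IsProper (W.ι ≫ π) := inferInstance
    have : LocallyQuasiFinite (W.ι ≫ π) := Groth.Agent.Desc.LQF.of_etale _
    exact IsFinite.of_isProper_of_locallyQuasiFinite (W.ι ≫ π)
  have hα : IsIso (W.ι ≫ π) := by
    refine isIso_of_finrank_closedFibre (W.ι ≫ π) f hf ?_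
    intro x hx
    obtain ⟨x₀, hx₀⟩ := exists_closedFibre_point f x hx
    rw [← hx₀]
    have := Scheme.Hom.finrank_of_isPullback _ _ _ _ sq'' x₀
    rw [← this, Scheme.Hom.finrank_eq_one_of_isIso]
    rfl
  refine ⟨inv (W.ι ≫ π) ≫ W.ι, ?_, ?_, ?_⟩
  · rw [Category.assoc, IsIso.inv_hom_id]
  · have h1 : l = r ≫ inv (W.ι ≫ π) := by
      rw [IsIso.eq_comp_inv, sq''.w, Category.id_comp]
    rw [← Category.assoc]
    change (r ≫ inv (W.ι ≫ π)) ≫ W.ι = σ₀
    rw [← h1, hl]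
  · intro x
    rw [Scheme.Hom.comp_apply]
    exact hWet (inv (W.ι ≫ π) x).2

end local_base

section lift

variable {A : Type u} [CommRing A] (C : Type u) [CommRing C] [IsLocalRing C] [Algebra A C]
variable {X E : Scheme.{u}} (f : X ⟶ Spec (CommRingCat.of A)) (π : E ⟶ X) [IsProper π]

/-- Lifting `X`-morphisms `X_k ⟶ E` with values in an open étale over `X` to `X_C`. -/
theorem exists_lift_local [IsProper f]
    (hcl : ∀ {Y : Scheme.{u}} (g : Y ⟶ Spec (CommRingCat.of C)) [IsProper g], ClopenLifts g)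
    (U : E.Opens) (hU : Etale (U.ι ≫ π))
    (σ₀ : bc f (IsLocalRing.ResidueField C) ⟶ E) (hσ₀ : σ₀ ≫ π = pullback.fst f _)
    (het : ∀ x, σ₀ x ∈ U) :
    ∃ σ : bc f C ⟶ E, σ ≫ π = pullback.fst f (str A C) ∧ bcMap f (res A C) ≫ σ = σ₀ ∧
      ∀ x, σ x ∈ U := by
  let b : bc f C ⟶ X := pullback.fst f (str A C)
  let g : bc f C ⟶ Spec (CommRingCat.of C) := pullback.snd f (str A C)
  let π' : pullback π b ⟶ bc f C := pullback.snd π b
  let s : pullback g (cl C) ⟶ pullback π b :=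
    pullback.lift ((closedFibreIso C f).inv ≫ σ₀) (pullback.fst g (cl C)) (by
      rw [Category.assoc, hσ₀, ← closedFibreIso_inv_bcMap C f, Category.assoc]
      simp [b])
  have hs₁ : s ≫ pullback.fst π b = (closedFibreIso C f).inv ≫ σ₀ := pullback.lift_fst _ _ _
  have hs₂ : s ≫ π' = pullback.fst g (cl C) := pullback.lift_snd _ _ _
  have hπ' : IsProper π' := inferInstanceAs (IsProper (pullback.snd π b))
  obtain ⟨σ, h1, h2, h3⟩ := exists_section_lift g g.isClosedMap π' (hcl (π' ≫ g))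
    (pullback.fst π b ⁻¹ᵁ U) (etale_preimage (IsPullback.of_hasPullback π b) U hU) s hs₂ (by
      intro x
      change (pullback.fst π b) (s x) ∈ U
      rw [← Scheme.Hom.comp_apply, hs₁, Scheme.Hom.comp_apply]
      exact het _)
  refine ⟨σ ≫ pullback.fst π b, ?_, ?_, ?_⟩
  · rw [Category.assoc, pullback.condition, ← Category.assoc, h1, Category.id_comp]
  · rw [← closedFibreIso_hom_fst C f, Category.assoc, ← Category.assoc (pullback.fst g (cl C)), h2,
      hs₁, Iso.hom_inv_id_assoc]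
  · intro x
    rw [Scheme.Hom.comp_apply]
    exact h3 x

/-- Lifting to an étale neighbourhood. -/
theorem exists_etale_lift [IsProper f]
    (hC : ∀ (P : Type u) [CommRing P] [Algebra A P] [Algebra.FinitePresentation A P]
      (φ : P →ₐ[A] C), ∃ (E : Type u) (_ : CommRing E) (_ : Algebra A E) (_ : Algebra.Etale A E)
      (ψ : P →ₐ[A] E) (χ : E →ₐ[A] C), χ.comp ψ = φ)
    (hcl : ∀ {Y : Scheme.{u}} (g : Y ⟶ Spec (CommRingCat.of C)) [IsProper g], ClopenLifts g)
    (U : E.Opens) (hU : Etale (U.ι ≫ π))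
    (σ₀ : bc f (IsLocalRing.ResidueField C) ⟶ E) (hσ₀ : σ₀ ≫ π = pullback.fst f _)
    (het : ∀ x, σ₀ x ∈ U) :
    ∃ (B : Type u) (_ : CommRing B) (_ : Algebra A B) (_ : Algebra.Etale A B)
      (χ : B →ₐ[A] C) (σ : bc f B ⟶ E), σ ≫ π = pullback.fst f (str A B) ∧
      bcMap f ((res A C).comp χ) ≫ σ = σ₀ ∧ ∀ x, σ x ∈ U := by
  obtain ⟨σC, h1, h2, h3⟩ := exists_lift_local C f π hcl U hU σ₀ hσ₀ het
  let l : bc f C ⟶ U.toScheme := IsOpenImmersion.lift U.ι σC (by
    rw [Scheme.Opens.range_ι]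
    rintro _ ⟨x, rfl⟩
    exact h3 x)
  have hl : l ≫ U.ι = σC := IsOpenImmersion.lift_fac _ _ _
  obtain ⟨B, _, _, _, χ, σ, h4, h5⟩ := exists_etale f (𝟙 X) C hC (U.ι ≫ π) l (by
    rw [← Category.assoc, hl, h1, Category.comp_id])
  rw [Category.comp_id] at h4
  refine ⟨B, inferInstance, inferInstance, inferInstance, χ, σ ≫ U.ι, ?_, ?_, ?_⟩
  · rw [Category.assoc, h4]
  · rw [← bcMap_comp_assoc, reassoc_of% h5, hl, h2]
  · intro x
    rw [Scheme.Hom.comp_apply]
    exact (σ x).2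

end lift

end Groth.Agent.Pi1.H398.SecLift
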