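import Groth.Agent.Pi1.H398.SteinPart
import Groth.Agent.Pi1.H398.UHNorm
import Groth.Agent.Flat2G.EtaleSource
import Groth.Agent.S0075
import Mathlib.AlgebraicGeometry.Morphisms.FlatDescent
import Mathlib.AlgebraicGeometry.Morphisms.FlatMono

/-!
# Étale neighbourhoods coming from the base, via the Stein factorization
-/

set_option autoImplicit false
set_option backward.isDefEq.respectTransparency false

open CategoryTheory CategoryTheory.Limits AlgebraicGeometry

universe u

namespace Groth.Agent.Pi1.H398.SteinNbhd

section comp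

variable {X X' S : Scheme.{u}} (f : X ⟶ S) [IsProper f] (g : X' ⟶ X) [IsProper g]

/-- Functoriality of the Stein factor. -/
noncomputable def stMap : (g ≫ f).normalization ⟶ f.normalization :=
  (g ≫ f).normalizationDesc (g ≫ f.toNormalization) f.fromNormalization (by simp)

@[reassoc]
theorem toNormalization_stMap :
    (g ≫ f).toNormalization ≫ stMap f g = g ≫ f.toNormalization :=
  (g ≫ f).toNormalization_normalizationDesc _ _ _

@[reassoc]
theorem stMap_fromNormalization : stMap f g ≫ f.fromNormalization = (g ≫ f).fromNormalization :=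
  (g ≫ f).normalizationDesc_comp _ _ _

end comp

/-- Let `h : X_T ⟶ X'` be an étale `X`-morphism, `T` étale over `S`. Then near the image of `h` (and its
saturation for the Stein factorization of `X' ⟶ S`), `X'` is an étale neighbourhood of the Stein factor
of `X`. -/
theorem exists_open {X X' S T : Scheme.{u}} (f : X ⟶ S) [IsProper f] (g : X' ⟶ X) [IsProper g]
    (t : T ⟶ S) [Etale t] (h : pullback f t ⟶ X') [Etale h] (hg : h ≫ g = pullback.fst f t) :
    ∃ N : (g ≫ f).normalization.Opens, (∀ x : ↥(pullback f t), (g ≫ f).toNormalization (h x) ∈ N) ∧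
      Etale (N.ι ≫ stMap f g) ∧
      IsPullback (((g ≫ f).toNormalization ⁻¹ᵁ N).ι ≫ g) ((g ≫ f).toNormalization ∣_ N)
        f.toNormalization (N.ι ≫ stMap f g) := by
  let f' : X' ⟶ S := g ≫ f
  let fT : pullback f t ⟶ T := pullback.snd f t
  let f'T : pullback f' t ⟶ T := pullback.snd f' t
  let hT : pullback f t ⟶ pullback f' t := pullback.lift h fT (by
    change h ≫ g ≫ f = _
    rw [reassoc_of% hg, pullback.condition])
  have hT1 : hT ≫ pullback.fst f' t = h := pullback.lift_fst _ _ _
  have hT2 : hT ≫ f'T = fT := pullback.lift_snd _ _ _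
  have hTe : Etale hT := by
    have : Etale (hT ≫ pullback.fst f' t) := by rw [hT1]; infer_instance
    exact Etale.of_comp hT (pullback.fst f' t)
  let gT : pullback f' t ⟶ pullback f t := pullback.lift (pullback.fst f' t ≫ g) f'T (by
    rw [Category.assoc]; exact pullback.condition)
  have hgT : hT ≫ gT = 𝟙 _ := by
    apply pullback.hom_ext
    · rw [Category.assoc, pullback.lift_fst, reassoc_of% hT1, hg, Category.id_comp]
    · rw [Category.assoc, pullback.lift_snd, hT2, Category.id_comp]
  have hgTs : IsSeparated gT := by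
    have : IsSeparated (gT ≫ pullback.snd f t) := by
      rw [pullback.lift_snd]
      infer_instance
    exact IsSeparated.of_comp gT (pullback.snd f t)
  have hTmono : Mono hT := by
    have : Mono (hT ≫ gT) := by rw [hgT]; infer_instance
    exact mono_of_mono hT gT
  have hTopen : IsOpenImmersion hT := IsOpenImmersion.of_flat_of_mono hT
  have hTcl : IsClosedImmersion hT := by
    have : IsClosedImmersion (hT ≫ gT) := by rw [hgT]; infer_instance
    exact IsClosedImmersion.of_comp hT gT
  obtain ⟨ν, hν1, hν2, hν3⟩ := SteinPart.exists_part f' t (pullback.fst f' t) f'T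
    (IsPullback.of_hasPullback f' t) hT fT hT2
  rw [hT1] at hν2
  obtain ⟨ν₀, hν01, hν02, hν03⟩ := SteinPart.exists_bc f t (pullback.fst f t) fT
    (IsPullback.of_hasPullback f t)
  let c : f'.normalization ⟶ f.normalization := stMap f g
  have hcν : ν ≫ c = ν₀ := by
    have hw1 : (ν ≫ c) ≫ f.fromNormalization = fT.fromNormalization ≫ t := by
      rw [Category.assoc, stMap_fromNormalization]
      exact hν3
    let a₁ : fT.normalization ⟶ pullback f.fromNormalization t :=
      pullback.lift (ν ≫ c) fT.fromNormalization hw1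
    let a₂ : fT.normalization ⟶ pullback f.fromNormalization t :=
      pullback.lift ν₀ fT.fromNormalization hν03
    have key : a₁ = a₂ := by
      refine Scheme.Hom.normalization.hom_ext fT a₁ a₂ (pullback.snd f.fromNormalization t) ?_
        (pullback.lift_snd _ _ _) (pullback.lift_snd _ _ _)
      apply pullback.hom_ext
      · rw [Category.assoc, Category.assoc, pullback.lift_fst, pullback.lift_fst, ← hν02.w,
          ← Category.assoc, ← hν2.w, Category.assoc]
        change h ≫ f'.toNormalization ≫ stMap f g = _
        rw [toNormalization_stMap, reassoc_of% hg]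
      · rw [Category.assoc, Category.assoc, pullback.lift_snd, pullback.lift_snd]
    have e1 : a₁ ≫ pullback.fst _ _ = ν ≫ c := pullback.lift_fst _ _ _
    have e2 : a₂ ≫ pullback.fst _ _ = ν₀ := pullback.lift_fst _ _ _
    rw [← e1, ← e2, key]
  let N : f'.normalization.Opens := ⟨Set.range ν, ν.isOpenMap.isOpen_range⟩
  let νN : fT.normalization ⟶ N.toScheme := IsOpenImmersion.lift N.ι ν (by
    rw [Scheme.Opens.range_ι]
    exact subset_rfl)
  have hνN : νN ≫ N.ι = ν := IsOpenImmersion.lift_fac _ _ _
  have hνNe : Etale νN := by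
    have : Etale (νN ≫ N.ι) := by rw [hνN]; exact hν1
    exact Etale.of_comp νN N.ι
  have hνNs : Surjective νN := by
    refine ⟨fun x => ?_⟩
    obtain ⟨y, hy⟩ := x.2
    refine ⟨y, N.ι.isOpenEmbedding.injective ?_⟩
    rw [← Scheme.Hom.comp_apply, hνN]
    exact hy
  have hcN : Etale (N.ι ≫ c) := by
    have : Etale (νN ≫ N.ι ≫ c) := by
      rw [reassoc_of% hνN, hcν]
      exact hν01
    exact Groth.Agent.Flat2G.EtaleSource.etale_of_comp νN (N.ι ≫ c)
  refine ⟨N, ?_, hcN, ?_⟩
  · intro x
    refine ⟨fT.toNormalization x, ?_⟩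
    rw [← Scheme.Hom.comp_apply, ← Scheme.Hom.comp_apply, hν2.w]
  · let W : X'.Opens := f'.toNormalization ⁻¹ᵁ N
    let r : W.toScheme ⟶ N.toScheme := f'.toNormalization ∣_ N
    have sqW : IsPullback W.ι r f'.toNormalization N.ι :=
      (isPullback_morphismRestrict f'.toNormalization N).flip
    have hrw : (W.ι ≫ g) ≫ f.toNormalization = r ≫ N.ι ≫ c := by
      rw [Category.assoc, ← toNormalization_stMap, ← Category.assoc, ← Category.assoc]
      exact congrArg (· ≫ c) sqW.w
    let η : W.toScheme ⟶ pullback f.toNormalization (N.ι ≫ c) := pullback.lift (W.ι ≫ g) r hrw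
    have hη1 : η ≫ pullback.fst _ _ = W.ι ≫ g := pullback.lift_fst _ _ _
    have hη2 : η ≫ pullback.snd _ _ = r := pullback.lift_snd _ _ _
    -- `X_T` as base change of `W` along `νN`
    let u : pullback f t ⟶ W.toScheme := sqW.lift h (fT.toNormalization ≫ νN) (by
      rw [Category.assoc, hνN]; exact hν2.w)
    have hu1 : u ≫ W.ι = h := sqW.lift_fst _ _ _
    have hu2 : u ≫ r = fT.toNormalization ≫ νN := sqW.lift_snd _ _ _
    have squ : IsPullback u fT.toNormalization r νN := by
      refine IsPullback.of_right (h₁₂ := W.ι) (v₁₃ := f'.toNormalization) (h₂₂ := N.ι) ?_ hu2 sqW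
      rw [hu1, hνN]
      exact hν2
    -- `X_T` as base change of the fibre product
    have sqP := IsPullback.of_hasPullback f.toNormalization (N.ι ≫ c)
    let v : pullback f t ⟶ pullback f.toNormalization (N.ι ≫ c) :=
      pullback.lift (pullback.fst f t) (fT.toNormalization ≫ νN) (by
        rw [Category.assoc, reassoc_of% hνN, hcν]; exact hν02.w)
    have hv1 : v ≫ pullback.fst _ _ = pullback.fst f t := pullback.lift_fst _ _ _
    have hv2 : v ≫ pullback.snd _ _ = fT.toNormalization ≫ νN := pullback.lift_snd _ _ _
    have sqv : IsPullback v fT.toNormalization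
        (pullback.snd f.toNormalization (N.ι ≫ c)) νN := by
      refine IsPullback.of_right (h₁₂ := pullback.fst f.toNormalization (N.ι ≫ c))
        (v₁₃ := f.toNormalization) (h₂₂ := N.ι ≫ c) ?_ hv2 sqP
      rw [hv1, reassoc_of% hνN, hcν]
      exact hν02
    have huv : u ≫ η = v := by
      apply pullback.hom_ext
      · rw [Category.assoc, hη1, ← Category.assoc, hu1, hg, hv1]
      · rw [Category.assoc, hη2, hu2, hv2]
    have sqη : IsPullback u (𝟙 _) η v := by
      refine IsPullback.of_bot (h₃₁ := νN) (v₂₁ := fT.toNormalization)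
        (v₂₂ := pullback.snd f.toNormalization (N.ι ≫ c)) ?_ (by rw [huv, Category.id_comp]) sqv
      rw [hη2, Category.id_comp]
      exact squ
    have hve : Etale v := MorphismProperty.of_isPullback sqv.flip hνNe
    have hvs : Surjective v := MorphismProperty.of_isPullback sqv.flip hνNs
    have hηiso : IsIso η := by
      have h1 : (MorphismProperty.isomorphisms Scheme.{u}) (𝟙 (pullback f t)) :=
        (inferInstance : IsIso (𝟙 (pullback f t)))
      exact MorphismProperty.of_isPullback_of_descendsAlong
        (P := MorphismProperty.isomorphisms Scheme.{u})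
        (Q := @Surjective ⊓ @Flat ⊓ @LocallyOfFinitePresentation) sqη.flip
        ⟨⟨hvs, inferInstance⟩, inferInstance⟩ h1
    exact IsPullback.of_iso_pullback ⟨hrw⟩ (asIso η) hη1 hη2

/-- Étale schemes over the Stein factor of a morphism with geometrically connected fibres come from the
base. -/
theorem exists_desc {X S N W : Scheme.{u}} (f : X ⟶ S) [IsProper f] [Surjective f]
    (hconn : ∀ (Ω : Type u) [Field Ω] [IsAlgClosed Ω] (σ : Spec (CommRingCat.of Ω) ⟶ S),
      ConnectedSpace ↥(pullback f σ))
    (cN : N ⟶ f.normalization) [Etale cN] (w : W ⟶ X) (r : W ⟶ N)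
    (sq : IsPullback w r f.toNormalization cN) :
    ∃ (S₁ : Scheme.{u}) (e : S₁ ⟶ S) (_ : Etale e) (φ : W ≅ pullback f e),
      φ.hom ≫ pullback.fst f e = w := by
  let b : f.normalization ⟶ S := f.fromNormalization
  have hs : Surjective f.toNormalization := UHNorm.surjective_toNormalization f
  have hui : UniversallyInjective b := UHNorm.universallyInjective_of_connected f.toNormalization b f
    f.toNormalization_fromNormalization hconn
  have hbs : Surjective b := by
    have : Surjective (f.toNormalization ≫ b) := by
      rw [Scheme.Hom.toNormalization_fromNormalization]; infer_instance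
    exact Surjective.of_comp f.toNormalization b
  have hbi : IsIntegralHom b := inferInstanceAs (IsIntegralHom f.fromNormalization)
  have heq := Groth.Agent.S0075.result b
  let M : f.normalization.Etale := Scheme.Etale.mk cN
  let S' : S.Etale := (EtCoh.bc b).objPreimage M
  let ε : (EtCoh.bc b).obj S' ≅ M := (EtCoh.bc b).objObjPreimageIso M
  have h1 : IsPullback (pullback.fst S'.hom b) (pullback.snd S'.hom b) S'.hom b :=
    IsPullback.of_hasPullback S'.hom b
  let εl : N ⟶ pullback S'.hom b := ε.inv.left
  have hεl : εl ≫ pullback.snd S'.hom b = cN := MorphismProperty.Over.w ε.inv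
  have hiso : IsIso εl := by
    refine ⟨ε.hom.left, ?_, ?_⟩
    · exact congrArg (fun t => t.left) ε.inv_hom_id
    · exact congrArg (fun t => t.left) ε.hom_inv_id
  have h2 : IsPullback (εl ≫ pullback.fst S'.hom b) cN S'.hom b := by
    refine IsPullback.of_iso h1 (asIso εl).symm (Iso.refl _) (Iso.refl _) (Iso.refl _) ?_ ?_ ?_ ?_
    · simp
    · rw [← hεl]; simp
    · simp
    · simp
  have h3 : IsPullback w (r ≫ εl ≫ pullback.fst S'.hom b) (f.toNormalization ≫ b) S'.hom :=
    sq.paste_vert h2.flip
  rw [Scheme.Hom.toNormalization_fromNormalization] at h3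
  exact ⟨S'.left, S'.hom, S'.prop, h3.isoPullback, h3.isoPullback_hom_fst⟩

end Groth.Agent.Pi1.H398.SteinNbhd
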