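import Groth.Agent.Pi1.H398.SteinNbhd
import Groth.Agent.Pi1.H398.SecLift
import Groth.Agent.Pi1.H398.SplitSec
import Groth.Agent.Sga1.ProperDesc

/-!
# Étale trivialisation near a component of a fibre
-/

set_option autoImplicit false
set_option backward.isDefEq.respectTransparency false
set_option backward.isDefEq.respectTransparency.types false

open CategoryTheory CategoryTheory.Limits AlgebraicGeometry Opposite
open Groth.Agent.Sga1 Groth.Agent.Sga1.SectionSpread Groth.Agent.Sga1.ProperLift

universe u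

namespace Groth.Agent.Pi1.H398.Triv

/-- Étale locally on the base there is an étale `X`-morphism `X_T ⟶ X'` meeting the given component. -/
theorem exists_etale_nbhd {X X' S : Scheme.{u}} (f : X ⟶ S) [IsProper f] [Surjective f]
    (g : X' ⟶ X) [IsProper g] (s : S) (U : X'.Opens) (hU : Etale (U.ι ≫ g))
    {Cs : Scheme.{u}} (cX : Cs ⟶ X') (ρ : Cs ⟶ pullback f (S.fromSpecResidueField s))
    (hcρ : cX ≫ g = ρ ≫ pullback.fst f (S.fromSpecResidueField s))
    (hcU : ∀ c, cX c ∈ U) (Z : FEt.Cat (pullback f (S.fromSpecResidueField s)))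
    (zc : Z.left ⟶ Cs) (hz : zc ≫ ρ = Z.hom) (hne : Nonempty Z.left)
    (hsplit : Pi1.IsSplit ((FEt.restrict (pullback.fst (pullback.snd f (S.fromSpecResidueField s))
        (Spec.map (CommRingCat.ofHom (algebraMap (S.residueField s)
          (AlgebraicClosure (S.residueField s))))))).obj Z)) :
    ∃ (T : Scheme.{u}) (t : T ⟶ S) (_ : Etale t) (h : pullback f t ⟶ X') (_ : Etale h)
      (_ : h ≫ g = pullback.fst f t) (x : ↥(pullback f t)) (c : Cs), h x = cX c := by
  obtain ⟨A, _, j, _, a, ha⟩ := ProperDesc.exists_chart s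
  obtain ⟨C, _, _, _, hsep, hCa, hC⟩ := StrictHens.exists_strictHens A a
  let k := IsLocalRing.ResidueField C
  let ξS : Spec (CommRingCat.of k) ⟶ S := str A k ≫ j
  have hξS : ξS (IsLocalRing.closedPoint k) = s := by
    rw [Scheme.Hom.comp_apply, ← ha, ← hCa]
    congr 1
    have h1 : str A k = RankOne.cl C ≫ str A C := (sp_str (res A C)).symm
    have h2 : RankOne.cl C (IsLocalRing.closedPoint k) = IsLocalRing.closedPoint C :=
      IsLocalRing.comap_closedPoint (IsLocalRing.residue C)
    rw [h1, Scheme.Hom.comp_apply, h2]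
    rfl
  obtain ⟨ξ, hξ⟩ := SplitSec.exists_fac ξS s hξS
  let sres := S.fromSpecResidueField s
  let qs : pullback f sres ⟶ Spec (CommRingCat.of (S.residueField s)) := pullback.snd f sres
  obtain ⟨b, hb⟩ := SplitSec.exists_section qs Z hne hsplit k ξ
  let fA : pullback f j ⟶ Spec (CommRingCat.of A) := pullback.snd f j
  let E : Scheme.{u} := pullback (g ≫ f) j
  let π : E ⟶ pullback f j := pullback.lift (pullback.fst (g ≫ f) j ≫ g) (pullback.snd (g ≫ f) j)
    (by rw [Category.assoc, pullback.condition])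
  have hπ1 : π ≫ pullback.fst f j = pullback.fst (g ≫ f) j ≫ g := pullback.lift_fst _ _ _
  have hπ2 : π ≫ pullback.snd f j = pullback.snd (g ≫ f) j := pullback.lift_snd _ _ _
  have sqπ : IsPullback (pullback.fst (g ≫ f) j) π g (pullback.fst f j) := by
    refine IsPullback.of_bot (h₃₁ := j) (v₂₁ := pullback.snd f j) (v₂₂ := f) ?_ hπ1.symm
      (IsPullback.of_hasPullback f j)
    rw [hπ2]
    exact IsPullback.of_hasPullback (g ≫ f) j
  have hπ : IsProper π := MorphismProperty.of_isPullback sqπ inferInstance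
  let UE : E.Opens := pullback.fst (g ≫ f) j ⁻¹ᵁ U
  have hUE : Etale (UE.ι ≫ π) := SecLift.etale_preimage sqπ U hU
  -- the section over the residue field
  let m : bc fA k ⟶ pullback qs ξ := pullback.lift
    (pullback.lift (pullback.fst fA (str A k) ≫ pullback.fst f j) (pullback.snd fA (str A k) ≫ ξ) (by
      rw [Category.assoc, Category.assoc, hξ, pullback.condition]
      exact (pullback.condition_assoc j))) (pullback.snd fA (str A k)) (pullback.lift_snd _ _ _)
  have hm1 : m ≫ pullback.fst qs ξ ≫ pullback.fst f sres =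
      pullback.fst fA (str A k) ≫ pullback.fst f j := by
    rw [pullback.lift_fst_assoc, pullback.lift_fst]
  let σX : bc fA k ⟶ X' := m ≫ b ≫ zc ≫ cX
  have hσX : σX ≫ g = pullback.fst fA (str A k) ≫ pullback.fst f j := by
    simp only [σX, Category.assoc]
    rw [hcρ, reassoc_of% hz, reassoc_of% hb, hm1]
  let σ₀ : bc fA k ⟶ E := pullback.lift σX (pullback.snd fA (str A k) ≫ str A k) (by
    rw [← Category.assoc, hσX, Category.assoc, pullback.condition, Category.assoc,
      ← pullback.condition_assoc])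
  have hσ₀1 : σ₀ ≫ pullback.fst (g ≫ f) j = σX := pullback.lift_fst _ _ _
  have hσ₀2 : σ₀ ≫ pullback.snd (g ≫ f) j = pullback.snd fA (str A k) ≫ str A k :=
    pullback.lift_snd _ _ _
  have hσ₀ : σ₀ ≫ π = pullback.fst fA (str A k) := by
    apply pullback.hom_ext
    · rw [Category.assoc, hπ1, reassoc_of% hσ₀1, hσX]
    · rw [Category.assoc, hπ2, hσ₀2, ← pullback.condition]
  obtain ⟨B, _, _, _, χ, σ, h1, h2, h3⟩ := SecLift.exists_etale_lift C fA π hC
    (fun g _ => HclHensel.clopenLifts g) UE hUE σ₀ hσ₀ (by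
      intro x
      change (pullback.fst (g ≫ f) j) (σ₀ x) ∈ U
      rw [← Scheme.Hom.comp_apply, hσ₀1]
      simp only [σX, Scheme.Hom.comp_apply]
      exact hcU _)
  have hBe : Etale (str A B) := (HasRingHomProperty.Spec_iff (P := @Etale)).mpr
    (RingHom.etale_algebraMap.mpr inferInstance)
  let t : Spec (CommRingCat.of B) ⟶ S := str A B ≫ j
  let w : pullback f t ⟶ bc fA B := pullback.lift (pullback.lift (pullback.fst f t)
    (pullback.snd f t ≫ str A B) (by rw [Category.assoc]; exact pullback.condition))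
    (pullback.snd f t) (pullback.lift_snd _ _ _)
  have hw1 : w ≫ pullback.fst fA (str A B) ≫ pullback.fst f j = pullback.fst f t := by
    rw [pullback.lift_fst_assoc, pullback.lift_fst]
  let w' : bc fA B ⟶ pullback f t := pullback.lift (pullback.fst fA (str A B) ≫ pullback.fst f j)
    (pullback.snd fA (str A B)) (by
      rw [Category.assoc, pullback.condition, ← pullback.condition_assoc])
  have hw'w : w' ≫ w = 𝟙 _ := by
    apply pullback.hom_ext
    · apply pullback.hom_ext
      · rw [Category.assoc, Category.assoc, hw1, pullback.lift_fst, Category.id_comp]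
      · have e1 : w ≫ pullback.fst fA (str A B) ≫ pullback.snd f j = pullback.snd f t ≫ str A B := by
          rw [pullback.lift_fst_assoc, pullback.lift_snd]
        rw [Category.assoc, Category.assoc, e1, pullback.lift_snd_assoc, Category.id_comp]
        exact pullback.condition.symm
    · rw [Category.assoc, pullback.lift_snd, pullback.lift_snd, Category.id_comp]
  let h : pullback f t ⟶ X' := w ≫ σ ≫ pullback.fst (g ≫ f) j
  have hh : h ≫ g = pullback.fst f t := by
    simp only [h, Category.assoc]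
    rw [← hπ1, reassoc_of% h1, hw1]
  have hte : Etale t := inferInstance
  have hmem : ∀ x, h x ∈ U := by
    intro x
    simp only [h, Scheme.Hom.comp_apply]
    exact h3 (w x)
  have hhe : Etale h := by
    let l : pullback f t ⟶ U.toScheme := IsOpenImmersion.lift U.ι h (by
      rw [Scheme.Opens.range_ι]
      rintro _ ⟨x, rfl⟩
      exact hmem x)
    have hl : l ≫ U.ι = h := IsOpenImmersion.lift_fac _ _ _
    have hl' : Etale l := by
      have : Etale (l ≫ U.ι ≫ g) := by
        rw [← Category.assoc, hl, hh]; infer_instance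
      exact Etale.of_comp l (U.ι ≫ g)
    rw [← hl]
    infer_instance
  have hfAs : Surjective fA := inferInstanceAs (Surjective (pullback.snd f j))
  have hns : Surjective (pullback.snd fA (str A k)) := inferInstance
  obtain ⟨x₀, -⟩ := hns.surj (IsLocalRing.closedPoint k)
  refine ⟨_, t, hte, h, hhe, hh, w' (bcMap fA ((res A C).comp χ) x₀), zc (b (m x₀)), ?_⟩
  rw [← Scheme.Hom.comp_apply, ← Scheme.Hom.comp_apply]
  have e1 : bcMap fA ((res A C).comp χ) ≫ w' ≫ h = σX := by
    simp only [h]
    rw [reassoc_of% hw'w, reassoc_of% h2, hσ₀1]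
  rw [e1]
  simp only [σX, Scheme.Hom.comp_apply]
  rfl

/-- The main theorem. -/
theorem main {X X' S : Scheme.{u}} (f : X ⟶ S) [IsProper f] [Surjective f]
    (hconn : ∀ (Ω : Type u) [Field Ω] [IsAlgClosed Ω] (σ : Spec (CommRingCat.of Ω) ⟶ S),
      ConnectedSpace ↥(pullback f σ))
    (g : X' ⟶ X) [IsProper g] (s : S) (U : X'.Opens) (hU : Etale (U.ι ≫ g))
    {Cs : Scheme.{u}} [ConnectedSpace Cs] (cX : Cs ⟶ X')
    (ρ : Cs ⟶ pullback f (S.fromSpecResidueField s))
    (hcρ : cX ≫ g = ρ ≫ pullback.fst f (S.fromSpecResidueField s))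
    (hcU : ∀ c, cX c ∈ U) (Z : FEt.Cat (pullback f (S.fromSpecResidueField s)))
    (zc : Z.left ⟶ Cs) (hz : zc ≫ ρ = Z.hom) (hne : Nonempty Z.left)
    (hsplit : Pi1.IsSplit ((FEt.restrict (pullback.fst (pullback.snd f (S.fromSpecResidueField s))
        (Spec.map (CommRingCat.ofHom (algebraMap (S.residueField s)
          (AlgebraicClosure (S.residueField s))))))).obj Z)) :
    ∃ W : X'.Opens, (∀ c, cX c ∈ W) ∧
      ∃ (S₁ : Scheme.{u}) (e : S₁ ⟶ S) (_ : Etale e) (φ : (W : Scheme.{u}) ≅ pullback f e),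
        φ.hom ≫ pullback.fst f e = W.ι ≫ g := by
  obtain ⟨T, t, ht, h, hh, hg, x₀, c₀, hc₀⟩ := exists_etale_nbhd f g s U hU cX ρ hcρ hcU Z zc hz
    hne hsplit
  obtain ⟨N, hN, hNe, sq⟩ := SteinNbhd.exists_open f g t h hg
  refine ⟨(g ≫ f).toNormalization ⁻¹ᵁ N, ?_, SteinNbhd.exists_desc f hconn _ _ _ sq⟩
  -- the image of the component in the Stein factor is a point
  let a : Cs ⟶ (g ≫ f).normalization := cX ≫ (g ≫ f).toNormalization
  have hs : ∀ c : Cs, (g ≫ f).fromNormalization (a c) = s := by
    intro c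
    rw [← Scheme.Hom.comp_apply]
    have e1 : a ≫ (g ≫ f).fromNormalization =
        ρ ≫ pullback.snd f (S.fromSpecResidueField s) ≫ S.fromSpecResidueField s := by
      simp only [a, Category.assoc]
      rw [Scheme.Hom.toNormalization_fromNormalization, reassoc_of% hcρ, pullback.condition]
    rw [e1, Scheme.Hom.comp_apply, Scheme.Hom.comp_apply]
    exact S.fromSpecResidueField_apply _ _
  have hsub := Groth.Agent.Pi1A.SteinEtale.subsingleton_of_isPreconnected
    (g ≫ f).fromNormalization s (C := Set.range a)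
    (isPreconnected_range a.continuous) (by
      rintro _ ⟨c, rfl⟩
      exact hs c)
  intro c
  have h1 : a c = a c₀ := hsub ⟨c, rfl⟩ ⟨c₀, rfl⟩
  change (g ≫ f).toNormalization (cX c) ∈ N
  have h2 : a c = (g ≫ f).toNormalization (h x₀) := by
    rw [h1, hc₀]
    simp only [a, Scheme.Hom.comp_apply]
  have h3 := hN x₀
  rw [← h2] at h3
  simpa only [a, Scheme.Hom.comp_apply] using h3

end Groth.Agent.Pi1.H398.Triv
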